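import Cfsg.Agent.RuModel.Out.Main
import Cfsg.Agent.Rudvalis.Aut.Group
import Cfsg.Prelude.Def_KGroupFacts

/-!
# The outer automorphism group of the Rudvalis group is trivial

Automorphisms of the lattice quotient are carried to the permutation model and back.
-/

set_option autoImplicit false

namespace Cfsg.Lib.RuModel

theorem ru_aut_inner (φ : MulAut Cfsg.Spor.Ru) : φ ∈ Cfsg.Inn Cfsg.Spor.Ru := by
  obtain ⟨g, hg⟩ := aut_inner ((Rudvalis.ruEquiv.symm.trans φ).trans Rudvalis.ruEquiv)
  refine ⟨Rudvalis.ruEquiv.symm g, MulEquiv.ext fun x => Rudvalis.ruEquiv.injective ?_⟩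
  have h := congrArg (fun f : MulAut ruGroup => f (Rudvalis.ruEquiv x)) hg
  simp only [MulEquiv.trans_apply, MulEquiv.symm_apply_apply, MulAut.conj_apply] at h
  rw [MulAut.conj_apply, map_mul, map_mul, map_inv, MulEquiv.apply_symm_apply, ← h]

theorem card_out_ru : Nat.card (Cfsg.Out Cfsg.Spor.Ru) = 1 := by
  refine Nat.card_eq_one_iff_unique.mpr ⟨⟨fun a b => ?_⟩, ⟨1⟩⟩
  induction a using QuotientGroup.induction_on with
  | _ a =>
    induction b using QuotientGroup.induction_on with
    | _ b => exact QuotientGroup.eq.mpr (ru_aut_inner (a⁻¹ * b))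

end Cfsg.Lib.RuModel
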