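import Mathlib

/-!
# Data for the automorphisms of the Rudvalis permutation model

Two centralisers are cut down by invariants of pairs and triples of lines.
-/

set_option autoImplicit false

namespace Cfsg.Lib.RuModel

/-- Codes of the normalising element and of the involution. -/
def outCodes : List ℕ := [907732868783, 73206041689]

/-- Matrices of the normalising element and of the involution. -/
def outMats : List ℕ := [0x9284adec5d3d4890046f483038e0181a3326ae75b151b034924ce5809580503bd282646df98a793c4a6843de53ffcdb22ee0699cc18b037ba07a3019ebdb4014c4c42f2b8730256394a8e9b3ae21092a66e221be3ce0376a7d5e89e610b6a01dc162, 0x20f04c5bd9b980152c5f7d85c8661db2c9014fafa8fdbd76209ca3f2480c3ed0a0f5608181144763377b7904221af50aed2e5b00c63d4cb819b870856a04455dc4c07db9ee556590ac0aa545f45cfe06e6bb34ffda64ee073083c37ef7235caf1df7]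

/-- The second generator as a word. -/
def genBWord : List ℕ := [0, 0, 0, 0, 0, 0, 1, 0, 0, 0, 0, 0, 0, 0, 1, 0, 0, 0, 0, 1, 0, 0, 0, 0, 0, 0, 0, 0, 0, 0, 0, 0, 0, 0, 0, 0, 0, 1, 0, 0, 0, 0, 0, 0, 0, 0, 0, 0, 0, 0, 0, 0, 1, 0, 0, 0, 0, 0, 0, 0, 0, 0, 0, 0, 0, 0, 0, 0, 0, 0, 1, 0, 0, 0, 0, 0, 0, 0, 0, 0, 0, 0, 0, 0, 0, 0, 0, 0, 0, 0, 0, 0, 0, 0, 1, 0, 0, 0, 1]

/-- The tested point. -/
def pointTwentynine : ℕ := 0

/-- Pair invariants at the point. -/
def pairsTwentynine : List (ℕ × ℤ) := [(1, 16), (2, 16), (3, 0), (4, 16), (5, 16), (6, 16), (7, 0), (8, 0), (9, 16), (10, 0), (11, 16), (12, 16), (13, 16), (14, 16)]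

/-- Triple invariants at the point. -/
def triplesTwentynine : List (ℕ × ℕ × ℤ × ℤ) := [(1, 2, 0, 64)]

/-- The images of the point under the centraliser. -/
def imagesTwentynine : List ℕ := [0, 425, 2131, 2638, 3772, 1455, 2935, 2396, 646, 1004, 3423, 3765, 3759, 161, 2744, 1126, 3938, 497, 2709, 2628, 2629, 1541, 971, 1548, 651, 2120, 1097, 2270, 3365]

/-- Further points: pair invariants with powers and with fixed points. -/
def moreTwentynine : List (ℕ × List (ℕ × ℤ) × List (ℕ × ℤ)) := []

/-- Fixed points spanning the space. -/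
def spanTwentynine : List ℕ := [0, 161, 425, 497, 646, 651, 971, 1004, 1097, 1126, 1455, 1541, 1548, 2120, 2131, 2270, 2396, 2628, 2629, 2638, 2709, 2744, 2935, 3365, 3423, 3759, 3765, 3772, 3938]

/-- The unit vectors in terms of the fixed points. -/
def masksTwentynine : List ℕ := [114924824, 195683899, 41820739, 99450007, 204921222, 14431565, 158838269, 20767573, 199913401, 6079547, 258222110, 100454661, 210023877, 146939239, 140338710, 67047404, 103108232, 47269188, 131115337, 153917503, 33857810, 236941033, 67514708, 224414203, 116884546, 73152519, 130061135, 175698618]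

/-- The tested point. -/
def pointSeven : ℕ := 58

/-- Pair invariants at the point. -/
def pairsSeven : List (ℕ × ℤ) := [(1, 0), (2, 16), (3, 16)]

/-- Triple invariants at the point. -/
def triplesSeven : List (ℕ × ℕ × ℤ × ℤ) := [(2, 4, (-64), 0)]

/-- The images of the point under the centraliser. -/
def imagesSeven : List ℕ := [58, 3553, 3344, 3627, 2800, 479, 733, 3533, 3874, 2390, 773, 1787, 3541, 3698, 1120, 422, 2054, 1825, 1413, 3431, 1908, 2761, 728, 3418, 428, 431, 720, 642]

/-- Further points: pair invariants with powers and with fixed points. -/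
def moreSeven : List (ℕ × List (ℕ × ℤ) × List (ℕ × ℤ)) := [(418, [(1, 0), (2, 0), (3, 16)], [(58, 0), (3541, 0), (733, 0), (3874, 0), (773, 0)]),
  (0, [(1, 0), (2, 0), (3, 16)], [(3344, 0), (556, 0), (3874, 0), (3541, 0), (3987, 0), (1629, 16), (2800, 16)]),
  (1, [(1, 0), (2, 16), (3, 0)], [(0, 0), (3874, 0), (857, 0), (2800, 16), (556, 16), (1319, 16), (3751, 0)]),
  (2, [(1, 16), (2, 16), (3, 16)], [(556, 0), (3344, 0), (413, 0), (3285, 0), (418, 16), (3874, 16), (58, 16)])]

/-- Fixed points spanning the space. -/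
def spanSeven : List ℕ := [58, 733, 773, 2800, 3344, 3541, 3874, 418, 556, 1629, 1778, 3285, 3751, 3987, 0, 212, 857, 1233, 1319, 1545, 1861, 1, 413, 1326, 1855, 3047, 3573, 3927, 2, 954, 998, 1568, 3437, 3578, 3861]

/-- The unit vectors in terms of the fixed points. -/
def masksSeven : List ℕ := [262238490, 59552006, 429650970, 469920688, 42457016, 434526765, 534534562, 309855549, 22078220, 454053904, 504523056, 353570343, 329446040, 244829318, 149281575, 455972494, 420093499, 410325567, 533976072, 297676297, 468008481, 344634672, 406817173, 357423542, 480348193, 227241858, 337418654, 302026901]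

end Cfsg.Lib.RuModel
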