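import Cfsg.Agent.Rudvalis.Aut.Bound
import Cfsg.Agent.RuModel.Out.Data

/-!
# Bounding centralisers in the Rudvalis permutation model

An element commuting with a given one keeps the invariants of a point and its images under the powers, and an
element fixing enough points to span the space is trivial.
-/

set_option autoImplicit false

namespace Cfsg.Lib.RuModel

open Cfsg.Lib.Rudvalis (hL tri lineGroup_eq)

/-- Looking a vector up. -/
def findV : ℕ → ℕ → ℕ → ℕ → ℕ
  | 0, _, lo, _ => lo
  | k + 1, w, lo, hi =>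
    if lo + 1 < hi then
      (if vv ((lo + hi) / 2) ≤ w then findV k w ((lo + hi) / 2) hi else findV k w lo ((lo + hi) / 2))
    else lo

/-- The point of a vector. -/
def ptOf (w : ℕ) : ℕ := findV 13 w 0 4060

theorem ptOf_lo : chk (fun k => ptOf (vv k) == k) 0 2030 = true := by decide +kernel

theorem ptOf_hi : chk (fun k => ptOf (vv k) == k) 2030 2030 = true := by decide +kernel

theorem ptOf_all : chk (fun k => ptOf (vv k) == k) 0 4060 = true := chk_join ptOf_lo ptOf_hi rfl rfl

theorem ptOf_vv (x : Fin 4060) : ptOf (vv x) = x := by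
  have h := chk_apply ptOf_all x.isLt
  exact eq_of_beq h

/-- Iterated images under a matrix. -/
def iterPt (M : ℕ) : ℕ → ℕ → ℕ
  | 0, y => y
  | i + 1, y => ptOf (vap (vv (iterPt M i y)) M)

theorem iterPt_eq {x : Equiv.Perm (Fin 4060)} {M : ℕ} (hx : Rep vv x M) :
    ∀ (i : ℕ) (y : Fin 4060), iterPt M i y = ((x ^ i) y : Fin 4060)
  | 0, y => by simp [iterPt]
  | i + 1, y => by
    rw [iterPt, iterPt_eq hx i y, ← hx, ptOf_vv, pow_succ', Equiv.Perm.mul_apply]

/-- The invariant of a pair of lines. -/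
def n2L (p y : ℕ) : ℤ :=
  let u := Rudvalis.dotC (Rudvalis.lineCode p) (Rudvalis.lineCode y)
  let v := Rudvalis.dotC (Rudvalis.rotC (Rudvalis.lineCode p)) (Rudvalis.lineCode y)
  u * u + v * v

theorem n2L_norm (p y : ℕ) : n2L p y = (hL p y).norm := by
  simp [n2L, hL, Rudvalis.hC, Zsqrtd.norm_def]

theorem tri_inv {σ : Equiv.Perm (Fin 4060)} (hσ : σ ∈ ruGroup) (p q y : Fin 4060) :
    tri (σ p) (σ q) (σ y) = tri p q y := by
  rw [← lineGroup_eq] at hσ
  obtain ⟨g, rfl⟩ := hσ
  exact (Rudvalis.tri_move g p q y).symm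

theorem n2L_inv {σ : Equiv.Perm (Fin 4060)} (hσ : σ ∈ ruGroup) (p y : Fin 4060) :
    n2L (σ p) (σ y) = n2L p y := by
  rw [← lineGroup_eq] at hσ
  obtain ⟨g, rfl⟩ := hσ
  obtain ⟨a, b, h, -, -⟩ := Rudvalis.hL_move g p y
  have hu : ∀ u : ℕ, (Cfsg.Spor.gI ^ u).norm = 1 := fun u => by
    induction u with
    | zero => rfl
    | succ u ih => rw [pow_succ, Zsqrtd.norm_mul, ih]; rfl
  rw [n2L_norm, n2L_norm, h, Zsqrtd.norm_mul, Zsqrtd.norm_mul, Zsqrtd.norm_conj, hu, hu, one_mul, one_mul]
  rfl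

/-- What is needed to bound a centraliser. -/
structure CentData where
  M : ℕ
  o : ℕ
  p : ℕ
  pairs : List (ℕ × ℤ)
  triples : List (ℕ × ℕ × ℤ × ℤ)
  images : List ℕ
  more : List (ℕ × List (ℕ × ℤ) × List (ℕ × ℤ))
  span : List ℕ
  masks : List ℕ

/-- A point passes the tests of the first point. -/
def CentData.firstTest (D : CentData) (y : ℕ) : Bool :=
  D.pairs.all (fun a => n2L y (iterPt D.M a.1 y) == a.2) &&
    D.triples.all fun a => decide (tri (iterPt D.M a.1 y) (iterPt D.M a.2.1 y) y = ⟨a.2.2.1, a.2.2.2⟩)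

/-- A point passes the tests of a further point. -/
def CentData.moreTest (D : CentData) (m : ℕ × List (ℕ × ℤ) × List (ℕ × ℤ)) (y : ℕ) : Bool :=
  m.2.1.all (fun a => n2L y (iterPt D.M a.1 y) == a.2) && m.2.2.all fun a => n2L a.1 y == a.2

/-- Only the images pass, and only the point itself at each further step. -/
def CentData.scan (D : CentData) (y : ℕ) : Bool :=
  (!D.firstTest y || D.images.contains y) && D.more.all fun m => !D.moreTest m y || y == m.1

/-- The points fixed so far, with their images under the powers. -/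
def CentData.orbitOf (D : CentData) (q : ℕ) : List ℕ := (List.range D.o).map fun i => iterPt D.M i q

/-- The further steps use fixed points only, and the fixed points span. -/
def CentData.moreOK (D : CentData) : List (ℕ × List (ℕ × ℤ) × List (ℕ × ℤ)) → List ℕ → Bool
  | [], known => D.span.all (fun f => known.contains f) &&
      (List.range 28).all fun k => Rudvalis.comb (D.span.map vv) (D.masks.getD k 0) == 2 ^ k
  | m :: r, known => decide (m.1 < 4060) && (m.2.2.all (fun a => known.contains a.1 && decide (a.1 < 4060)) &&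
      (D.moreTest m m.1 && D.moreOK r (known ++ D.orbitOf m.1)))

/-- The head checks. -/
def CentData.headOK (D : CentData) : Bool :=
  decide (D.p < 4060) && (D.firstTest D.p && D.moreOK D.more (D.orbitOf D.p))

theorem vap_comb (M : ℕ) : ∀ (l : List ℕ) (m : ℕ), vap (Rudvalis.comb l m) M = Rudvalis.comb (l.map (vap · M)) m
  | [], _ => vapR_zero M 28
  | r :: l, m => by
    have hx : ∀ a b, vap (a ^^^ b) M = vap a M ^^^ vap b M := fun a b => vapR_xor a b M 28
    rw [List.map_cons, Rudvalis.comb, Rudvalis.comb, hx, vap_comb M l]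
    split
    · rfl
    · rw [show vap 0 M = 0 from vapR_zero M 28]

theorem rep_of_mem {g : Equiv.Perm (Fin 4060)} (hg : g ∈ ruGroup) : ∃ M, Rep vv g M := by
  have h : g ∈ Subgroup.closure {s | s ∈ gs0} := hg
  rw [← Subgroup.mem_toSubmonoid, Subgroup.closure_toSubmonoid_of_finite] at h
  clear hg
  induction h using Submonoid.closure_induction with
  | mem s hs =>
    obtain ⟨i, hi, rfl⟩ := List.getElem_of_mem (show s ∈ gs0 from hs)
    exact ⟨_, List.getD_eq_getElem gs0 1 hi ▸ good0.rep i hi⟩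
  | one => exact ⟨_, Rep.one vecs⟩
  | mul a b _ _ ha hb =>
    obtain ⟨A, hA⟩ := ha
    obtain ⟨B, hB⟩ := hb
    exact ⟨_, hB.mul hA⟩

theorem vap_pow (M k : ℕ) (hk : k < 28) : vap (2 ^ k) M = row M k := by
  have h : ∀ n, vapR n (2 ^ k) M = if k < n then row M k else 0 := by
    intro n
    induction n with
    | zero => rfl
    | succ n ih =>
      rw [vapR, ih, Nat.testBit_two_pow]
      by_cases e : k = n
      · subst e; simp
      · by_cases h' : k < n
        · simp [e, h', Nat.lt_succ_of_lt h']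
        · simp [e, h', show ¬ k < n + 1 by omega]
  rw [vap, h, if_pos hk]

theorem vap_congr {M N : ℕ} (h : ∀ k < 28, row M k = row N k) (v : ℕ) : vap v M = vap v N := by
  have h' : ∀ n ≤ 28, vapR n v M = vapR n v N := by
    intro n
    induction n with
    | zero => intro _; rfl
    | succ n ih => intro hn; rw [vapR, vapR, ih (by omega), h n (by omega)]
  exact h' 28 le_rfl

theorem row_idMat : ∀ k, k < 28 → row idMat k = 2 ^ k := by decide +kernel

theorem eq_one_of_span {g : Equiv.Perm (Fin 4060)} (hg : g ∈ ruGroup) {l : List ℕ} (hl : ∀ f ∈ l, ∀ h : f < 4060,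
    g ⟨f, h⟩ = ⟨f, h⟩) (hlt : ∀ f ∈ l, f < 4060) {ms : List ℕ}
    (hm : ∀ k < 28, Rudvalis.comb (l.map vv) (ms.getD k 0) = 2 ^ k) : g = 1 := by
  obtain ⟨M, hM⟩ := rep_of_mem hg
  have hrow : ∀ k < 28, row M k = row idMat k := fun k hk => by
    rw [row_idMat k hk, ← vap_pow M k hk, ← hm k hk, vap_comb, List.map_map]
    congr 1
    refine List.map_congr_left fun f hf => ?_
    have := hM ⟨f, hlt f hf⟩
    rw [hl f hf (hlt f hf)] at this
    exact this.symm
  exact Rep.eq vecs hM (fun x => by rw [vap_congr hrow]; exact Rep.one vecs x)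

/-- The bound: a commuting element sends the point among the images, and is trivial if it fixes it. -/
theorem CentData.bound (D : CentData) {x : Equiv.Perm (Fin 4060)} (hx : Rep vv x D.M)
    (hhead : D.headOK = true) (hscan : chk D.scan 0 4060 = true) {g : Equiv.Perm (Fin 4060)} (hg : g ∈ ruGroup)
    (hcomm : g * x = x * g) :
    ∃ h : D.p < 4060, ((g ⟨D.p, h⟩ : Fin 4060) : ℕ) ∈ D.images ∧ (g ⟨D.p, h⟩ = ⟨D.p, h⟩ → g = 1) := by
  simp only [CentData.headOK, Bool.and_eq_true, decide_eq_true_eq] at hhead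
  obtain ⟨hp, hfirst, hmore⟩ := hhead
  have hiter : ∀ (i : ℕ) (y : Fin 4060), g ((x ^ i) y) = (x ^ i) (g y) := fun i y => by
    rw [← Equiv.Perm.mul_apply, ← Equiv.Perm.mul_apply, (Commute.pow_right hcomm i).eq]
  have hsc : ∀ y : Fin 4060, (D.firstTest y = true → (y : ℕ) ∈ D.images) ∧
      ∀ m ∈ D.more, D.moreTest m y = true → (y : ℕ) = m.1 := fun y => by
    have h := chk_apply hscan y.isLt
    simp only [CentData.scan, Bool.and_eq_true, Bool.or_eq_true, Bool.not_eq_true', List.all_eq_true,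
      List.contains_iff_mem, beq_iff_eq] at h
    exact ⟨fun e => h.1.resolve_left (by rw [e]; simp), fun m hm e => (h.2 m hm).resolve_left (by rw [e]; simp)⟩
  have hpair : ∀ (a : ℕ × ℤ) (y : Fin 4060),
      n2L (g y) (iterPt D.M a.1 (g y : Fin 4060)) = n2L y (iterPt D.M a.1 y) := fun a y => by
    rw [iterPt_eq hx, iterPt_eq hx, ← hiter, n2L_inv hg]
  refine ⟨hp, (hsc _).1 ?_, fun hfix => ?_⟩
  · simp only [CentData.firstTest, Bool.and_eq_true, List.all_eq_true, beq_iff_eq, decide_eq_true_eq] at hfirst ⊢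
    refine ⟨fun a ha => (hpair a ⟨D.p, hp⟩).trans (hfirst.1 a ha), fun a ha => ?_⟩
    rw [← hfirst.2 a ha]
    have e : ∀ i, iterPt D.M i D.p = (((x ^ i) ⟨D.p, hp⟩ : Fin 4060) : ℕ) := fun i => iterPt_eq hx i ⟨D.p, hp⟩
    rw [e, e, iterPt_eq hx, iterPt_eq hx, ← hiter, ← hiter]
    exact tri_inv hg _ _ ⟨D.p, hp⟩
  · have horbit : ∀ q : Fin 4060, g q = q → ∀ f ∈ D.orbitOf q, ∀ h : f < 4060, g ⟨f, h⟩ = ⟨f, h⟩ := by
      intro q hq f hf h
      obtain ⟨i, -, rfl⟩ := List.mem_map.mp hf
      rw [show (⟨iterPt D.M i q, h⟩ : Fin 4060) = (x ^ i) q from Fin.ext (iterPt_eq hx i q), hiter, hq]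
    have horblt : ∀ q : Fin 4060, ∀ f ∈ D.orbitOf q, f < 4060 := by
      intro q f hf
      obtain ⟨i, -, rfl⟩ := List.mem_map.mp hf
      rw [iterPt_eq hx]
      exact Fin.isLt _
    have main : ∀ (ms : List (ℕ × List (ℕ × ℤ) × List (ℕ × ℤ))) (known : List ℕ), (∀ m ∈ ms, m ∈ D.more) →
        D.moreOK ms known = true → (∀ f ∈ known, f < 4060) →
        (∀ f ∈ known, ∀ h : f < 4060, g ⟨f, h⟩ = ⟨f, h⟩) → g = 1 := by
      intro ms
      induction ms with
      | nil =>
        intro known _ hok hlt hfx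
        simp only [CentData.moreOK, Bool.and_eq_true, List.all_eq_true, List.contains_iff_mem, List.mem_range,
          beq_iff_eq] at hok
        exact eq_one_of_span hg (fun f hf => hfx f (hok.1 f hf)) (fun f hf => hlt f (hok.1 f hf)) hok.2
      | cons m r ih =>
        intro known hsub hok hlt hfx
        simp only [CentData.moreOK, Bool.and_eq_true, List.all_eq_true, List.contains_iff_mem,
          decide_eq_true_eq] at hok
        obtain ⟨hm, hfs, hself, hr⟩ := hok
        have hq : g ⟨m.1, hm⟩ = ⟨m.1, hm⟩ := by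
          refine Fin.ext ((hsc _).2 m (hsub m List.mem_cons_self) ?_)
          simp only [CentData.moreTest, Bool.and_eq_true, List.all_eq_true, beq_iff_eq] at hself ⊢
          refine ⟨fun a ha => (hpair a ⟨m.1, hm⟩).trans (hself.1 a ha), fun a ha => ?_⟩
          rw [← hself.2 a ha]
          have h := n2L_inv hg ⟨a.1, (hfs a ha).2⟩ ⟨m.1, hm⟩
          rw [hfx a.1 (hfs a ha).1 (hfs a ha).2] at h
          exact h
        refine ih _ (fun m' hm' => hsub m' (List.mem_cons_of_mem m hm')) hr (fun f hf => ?_) (fun f hf h => ?_)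
        · exact (List.mem_append.mp hf).elim (hlt f) (horblt ⟨m.1, hm⟩ f)
        · exact (List.mem_append.mp hf).elim (fun hf => hfx f hf h) fun hf => horbit ⟨m.1, hm⟩ hq f hf h
    exact main D.more _ (fun _ hm => hm) hmore (horblt ⟨D.p, hp⟩) (horbit ⟨D.p, hp⟩ hfix)

end Cfsg.Lib.RuModel
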