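import Cfsg.Agent.RuModel.Out.Cent

/-!
# The checks for the automorphisms of the Rudvalis permutation model

Matrices of words, and the scans for the two centralisers.
-/

set_option autoImplicit false

namespace Cfsg.Lib.RuModel

/-- The element of order twenty-nine. -/
def uMat : ℕ := ru0.mat 0

/-- The normalising element. -/
def tMat : ℕ := outMats.getD 0 0

/-- The involution. -/
def vMat : ℕ := outMats.getD 1 0

/-- The letters u, t, v. -/
def utvMats : List ℕ := [uMat, tMat, vMat]

/-- The element of order seven. -/
def xMat : ℕ := wmat utvMats [1, 1]

/-- The central involution. -/
def zMat : ℕ := wmat utvMats (List.replicate 7 1)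

/-- The data for the centraliser of the element of order twenty-nine. -/
def dataU : CentData :=
  ⟨uMat, 29, pointTwentynine, pairsTwentynine, triplesTwentynine, imagesTwentynine, moreTwentynine,
    spanTwentynine, masksTwentynine⟩

/-- The data for the centraliser of the element of order seven. -/
def dataX : CentData :=
  ⟨xMat, 7, pointSeven, pairsSeven, triplesSeven, imagesSeven, moreSeven, spanSeven, masksSeven⟩

/-- The elements centralising the element of order seven, as words. -/
def centWord (k : ℕ) : List ℕ := if k < 14 then List.replicate k 1 else 2 :: List.replicate (k - 14) 1

/-- The chain of levels. -/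
def outChain : List Lv := [ru0, ru1, ru2, ru3]

/-- A word fails to give the identity on some of the first five points. -/
def movesSome (M : ℕ) : Bool := (List.range 5).any fun y => !(vap (vv y) M == vv y)

/-- The orders and relations. -/
def relationsOK : Bool :=
  outCodes.length == 2 && (deepBound outChain (outCodes.getD 0 0) && (deepBound outChain (outCodes.getD 1 0) &&
    (deepMul outChain (outCodes.getD 0 0) == tMat && (deepMul outChain (outCodes.getD 1 0) == vMat &&
      (wmat utvMats (List.replicate 29 0) == idMat && (wmat utvMats (List.replicate 14 1) == idMat &&
        (wmat utvMats [2, 2] == idMat && (wmat utvMats [0, 1] == wmat utvMats [1, 0, 0, 0, 0] &&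
          (wmat utvMats [1, 1, 2] == wmat utvMats [2, 1, 1] && (wmat [uMat, vMat] genBWord == ru0.mat 1 &&
            genBWord.all fun i => decide (i < 2)))))))))))

/-- The first relation word, read with a power of the first letter. -/
def relOne (k : ℕ) : List ℕ := (List.replicate 29 (List.replicate k 0 ++ [1])).flatten

/-- The second relation word, read with a power of the first letter. -/
def relTwo (k : ℕ) : List ℕ :=
  (List.replicate 12 (List.replicate k 0 ++ [1] ++ List.replicate (4 * k) 0 ++ [1])).flatten

/-- The involutions that the image of the involution might be. -/
def vzMat : ℕ := mmul vMat zMat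

/-- The relations separate the possible images. -/
def separateOK : Bool :=
  wmat [uMat, vMat] (relOne 1) == idMat && (wmat [uMat, vMat] (relTwo 1) == idMat &&
    (movesSome (wmat [uMat, vzMat] (relOne 1)) && (movesSome (wmat [uMat, vMat] (relOne 2)) &&
      movesSome (wmat [uMat, vzMat] (relTwo 2)))))

/-- The centralising words hit the listed images, which are different. -/
def imagesOK : Bool :=
  ((List.range 29).map fun i => iterPt uMat i pointTwentynine) == imagesTwentynine &&
    (((List.range 28).map fun k => ptOf (vap (vv pointSeven) (wmat utvMats (centWord k)))) == imagesSeven &&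
      (decide imagesSeven.Nodup && (List.range 28).all fun k =>
        Nat.beq k 0 || Nat.beq k 7 || Nat.beq k 14 || Nat.beq k 21 ||
          !(vap (vv pointSeven) (wmat utvMats (centWord k ++ centWord k)) == vv pointSeven)))

theorem relations_ok : relationsOK = true := by decide +kernel

theorem separate_ok : separateOK = true := by decide +kernel

theorem images_ok : imagesOK = true := by decide +kernel

theorem headU : dataU.headOK = true := by decide +kernel

theorem headX : dataX.headOK = true := by decide +kernel

theorem scanU_0 : chk dataU.scan 0 1015 = true := by decide +kernel

theorem scanU_1 : chk dataU.scan 1015 1015 = true := by decide +kernel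

theorem scanU_2 : chk dataU.scan 2030 1015 = true := by decide +kernel

theorem scanU_3 : chk dataU.scan 3045 1015 = true := by decide +kernel

theorem scanX_0 : chk dataX.scan 0 1015 = true := by decide +kernel

theorem scanX_1 : chk dataX.scan 1015 1015 = true := by decide +kernel

theorem scanX_2 : chk dataX.scan 2030 1015 = true := by decide +kernel

theorem scanX_3 : chk dataX.scan 3045 1015 = true := by decide +kernel

theorem scanU : chk dataU.scan 0 4060 = true :=
  chk_join (chk_join (chk_join scanU_0 scanU_1 rfl rfl) scanU_2 rfl rfl) scanU_3 rfl rfl

theorem scanX : chk dataX.scan 0 4060 = true :=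
  chk_join (chk_join (chk_join scanX_0 scanX_1 rfl rfl) scanX_2 rfl rfl) scanX_3 rfl rfl

end Cfsg.Lib.RuModel
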