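import Cfsg.Agent.RuModel.Out.Checks

/-!
# Every automorphism of the Rudvalis permutation model is inner

An automorphism is moved to one fixing an element of order fourteen and raising an element of order twenty-nine to
the first or second power; the image of an involution commuting with the square of the former then has two choices.
-/

set_option autoImplicit false

namespace Cfsg.Lib.RuModel

theorem relations : deepBound outChain (outCodes.getD 0 0) = true ∧ deepBound outChain (outCodes.getD 1 0) = true ∧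
    deepMul outChain (outCodes.getD 0 0) = tMat ∧ deepMul outChain (outCodes.getD 1 0) = vMat ∧
      wmat utvMats (List.replicate 29 0) = idMat ∧ wmat utvMats (List.replicate 14 1) = idMat ∧
        wmat utvMats [2, 2] = idMat ∧ wmat utvMats [0, 1] = wmat utvMats [1, 0, 0, 0, 0] ∧
          wmat utvMats [1, 1, 2] = wmat utvMats [2, 1, 1] ∧ wmat [uMat, vMat] genBWord = ru0.mat 1 ∧
            ∀ i ∈ genBWord, i < 2 := by
  have h := relations_ok
  simp only [relationsOK, Bool.and_eq_true, beq_iff_eq, List.all_eq_true, decide_eq_true_eq] at h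
  exact h.2

theorem deep_all : DeepElems vv outChain ruGroup :=
  DeepElems.cons level0 (DeepElems.cons level1 (DeepElems.cons level2 (DeepElems.cons level3 (deepElems_nil vecs))))

theorem exists_t : ∃ g ∈ ruGroup, Rep vv g tMat := relations.2.2.1 ▸ deep_all _ relations.1

theorem exists_v : ∃ g ∈ ruGroup, Rep vv g vMat := relations.2.2.2.1 ▸ deep_all _ relations.2.1

theorem genA_mem : genA ∈ ruGroup := Subgroup.subset_closure (List.mem_cons_self)

/-- The element of order twenty-nine. -/
noncomputable def uE : ruGroup := ⟨genA, genA_mem⟩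

/-- The element of order fourteen normalising its group. -/
noncomputable def tE : ruGroup := ⟨exists_t.choose, exists_t.choose_spec.1⟩

/-- An involution commuting with the square of the second. -/
noncomputable def vE : ruGroup := ⟨exists_v.choose, exists_v.choose_spec.1⟩

theorem rep_u : Rep vv uE.1 uMat := fun x => (perm0_fact x).2.2.2.2.symm

theorem rep_t : Rep vv tE.1 tMat := exists_t.choose_spec.2

theorem rep_v : Rep vv vE.1 vMat := exists_v.choose_spec.2

/-- A word in a list of elements. -/
noncomputable def gword (gs : List ruGroup) (w : List ℕ) : ruGroup := w.foldl (fun a i => gs.getD i 1 * a) 1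

theorem gword_append (gs : List ruGroup) : ∀ (w v : List ℕ), gword gs (w ++ v) = gword gs v * gword gs w := by
  have key : ∀ (v : List ℕ) (a : ruGroup), v.foldl (fun a i => gs.getD i 1 * a) a =
      gword gs v * a := by
    intro v
    induction v with
    | nil => intro a; simp [gword]
    | cons i v ih =>
      intro a
      rw [gword, List.foldl_cons, List.foldl_cons, ih, ih (_ * 1), mul_one, mul_assoc]
  intro w v
  rw [gword, List.foldl_append, key]
  rfl

theorem gword_singleton (gs : List ruGroup) (i : ℕ) : gword gs [i] = gs.getD i 1 := by simp [gword]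

theorem gword_replicate (gs : List ruGroup) (i : ℕ) : ∀ n, gword gs (List.replicate n i) = gs.getD i 1 ^ n
  | 0 => rfl
  | n + 1 => by
    rw [List.replicate_succ', gword_append, gword_replicate gs i n, gword_singleton, pow_succ']

theorem map_gword (φ : ruGroup ≃* ruGroup) (gs : List ruGroup) (w : List ℕ) :
    φ (gword gs w) = gword (gs.map φ) w := by
  induction w using List.reverseRecOn with
  | nil => simp [gword]
  | append_singleton w i ih =>
    rw [gword_append, gword_append, map_mul, ih, gword_singleton, gword_singleton, List.getD_eq_getElem?_getD,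
      List.getD_eq_getElem?_getD, List.getElem?_map]
    cases gs[i]? <;> simp

theorem gword_rep {gs : List ruGroup} {Ms : List ℕ} (hlen : gs.length = Ms.length)
    (h : ∀ i < gs.length, Rep vv (gs.getD i 1).1 (Ms.getD i 0)) {w : List ℕ} (hw : ∀ i ∈ w, i < gs.length) :
    Rep vv (gword gs w).1 (wmat Ms w) := by
  induction w using List.reverseRecOn with
  | nil => exact Rep.one vecs
  | append_singleton w i ih =>
    rw [gword_append, gword_singleton, wmat, List.foldl_append]
    exact (ih fun j hj => hw j (List.mem_append_left _ hj)).mul (h i (hw i (by simp)))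

theorem eq_of_rep {a b : ruGroup} {M : ℕ} (ha : Rep vv a.1 M) (hb : Rep vv b.1 M) : a = b :=
  Subtype.ext (Rep.eq vecs ha hb)

theorem ne_one_of_moves {a : ruGroup} {M : ℕ} (ha : Rep vv a.1 M) (h : movesSome M = true) : a ≠ 1 := by
  intro e
  subst e
  obtain ⟨y, hy, hne⟩ := List.any_eq_true.mp h
  have := ha ⟨y, by rw [List.mem_range] at hy; omega⟩
  rw [OneMemClass.coe_one, Equiv.Perm.one_apply] at this
  simp at hne
  exact hne this.symm

theorem rep_utv : ∀ i < [uE, tE, vE].length, Rep vv ([uE, tE, vE].getD i 1).1 (utvMats.getD i 0) := by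
  intro i hi
  match i, hi with
  | 0, _ => exact rep_u
  | 1, _ => exact rep_t
  | 2, _ => exact rep_v

theorem utv_word {w : List ℕ} (hw : ∀ i ∈ w, i < 3) : Rep vv (gword [uE, tE, vE] w).1 (wmat utvMats w) :=
  gword_rep rfl rep_utv hw

theorem utv_eq {w v : List ℕ} (hw : ∀ i ∈ w, i < 3) (hv : ∀ i ∈ v, i < 3) (h : wmat utvMats w = wmat utvMats v) :
    gword [uE, tE, vE] w = gword [uE, tE, vE] v :=
  eq_of_rep (utv_word hw) (h ▸ utv_word hv)

theorem utv_one {w : List ℕ} (hw : ∀ i ∈ w, i < 3) (h : wmat utvMats w = idMat) : gword [uE, tE, vE] w = 1 :=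
  eq_of_rep (h ▸ utv_word hw) (Rep.one vecs)

theorem repl_lt {n i b : ℕ} (h : i < b) : ∀ j ∈ List.replicate n i, j < b := fun _ hj =>
  (List.eq_of_mem_replicate hj) ▸ h

theorem u_pow : uE ^ 29 = 1 := by
  have h := utv_one (repl_lt (by norm_num)) relations.2.2.2.2.1
  rwa [gword_replicate] at h

theorem t_pow : tE ^ 14 = 1 := by
  have h := utv_one (repl_lt (by norm_num)) relations.2.2.2.2.2.1
  rwa [gword_replicate] at h

theorem v_sq : vE * vE = 1 := by
  have h := utv_one (w := [2, 2]) (by decide) relations.2.2.2.2.2.2.1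
  simpa [gword] using h

theorem t_mul_u : tE * uE = uE ^ 4 * tE := by
  have h := utv_eq (w := [0, 1]) (v := [1, 0, 0, 0, 0]) (by decide) (by decide) relations.2.2.2.2.2.2.2.1
  simp [gword] at h
  rw [h, show uE ^ 4 = uE * uE * uE * uE by simp [pow_succ, mul_assoc]]
  group

theorem v_comm : vE * (tE * tE) = tE * tE * vE := by
  have h := utv_eq (w := [1, 1, 2]) (v := [2, 1, 1]) (by decide) (by decide) relations.2.2.2.2.2.2.2.2.1
  simp [gword] at h
  rw [h, mul_assoc]

theorem images_facts : ((List.range 29).map fun i => iterPt uMat i pointTwentynine) = imagesTwentynine ∧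
    ((List.range 28).map fun k => ptOf (vap (vv pointSeven) (wmat utvMats (centWord k)))) = imagesSeven ∧
      imagesSeven.Nodup ∧ ∀ k < 28, k ≠ 0 → k ≠ 7 → k ≠ 14 → k ≠ 21 →
        vap (vv pointSeven) (wmat utvMats (centWord k ++ centWord k)) ≠ vv pointSeven := by
  have h := images_ok
  simp only [imagesOK, Bool.and_eq_true, beq_iff_eq, decide_eq_true_eq, List.all_eq_true, List.mem_range,
    Bool.or_eq_true, Bool.not_eq_true', beq_eq_false_iff_ne] at h
  refine ⟨h.1, h.2.1, h.2.2.1, fun k hk h0 h7 h14 h21 => ?_⟩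
  rcases h.2.2.2 k hk with (((e | e) | e) | e) | e
  · exact absurd (Nat.eq_of_beq_eq_true e) h0
  · exact absurd (Nat.eq_of_beq_eq_true e) h7
  · exact absurd (Nat.eq_of_beq_eq_true e) h14
  · exact absurd (Nat.eq_of_beq_eq_true e) h21
  · exact e

theorem comm_val {a b : ruGroup} (h : a * b = b * a) : a.1 * b.1 = b.1 * a.1 := congrArg Subtype.val h

/-- The centraliser of the element of order twenty-nine is its group. -/
theorem cent_u {g : ruGroup} (h : g * uE = uE * g) : ∃ j : ℕ, g = uE ^ j := by
  obtain ⟨hp, hmem, htriv⟩ := CentData.bound dataU rep_u headU scanU g.2 (comm_val h)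
  rw [show dataU.images = imagesTwentynine from rfl, ← images_facts.1, List.mem_map] at hmem
  obtain ⟨j, -, hj⟩ := hmem
  refine ⟨j, ?_⟩
  have hj' : (uE.1 ^ j) ⟨dataU.p, hp⟩ = g.1 ⟨dataU.p, hp⟩ := Fin.ext ((iterPt_eq rep_u j _).symm.trans hj)
  have hc : (uE ^ j)⁻¹ * g * uE = uE * ((uE ^ j)⁻¹ * g) := by
    rw [mul_assoc, h, ← mul_assoc, ← mul_assoc, ((Commute.refl uE).pow_left j).inv_left.eq]
  obtain ⟨_, _, ht⟩ := CentData.bound dataU rep_u headU scanU ((uE ^ j)⁻¹ * g).2 (comm_val hc)
  have h1 := ht (by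
    show ((uE ^ j).1⁻¹ * g.1) ⟨dataU.p, hp⟩ = _
    rw [Equiv.Perm.mul_apply, Equiv.Perm.inv_eq_iff_eq, SubgroupClass.coe_pow]
    exact hj'.symm)
  exact (inv_mul_eq_one.mp (Subtype.ext h1)).symm

theorem centWord_lt (k : ℕ) : ∀ i ∈ centWord k, i < 3 := by
  intro i hi
  simp only [centWord] at hi
  split at hi
  · exact (List.eq_of_mem_replicate hi) ▸ (by norm_num)
  · rcases List.mem_cons.mp hi with rfl | hi
    · norm_num
    · exact (List.eq_of_mem_replicate hi) ▸ (by norm_num)

/-- An element of the centraliser of the element of order seven. -/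
noncomputable def centEl (k : ℕ) : ruGroup := gword [uE, tE, vE] (centWord k)

theorem centEl_low {k : ℕ} (h : k < 14) : centEl k = tE ^ k := by
  rw [centEl, centWord, if_pos h, gword_replicate]; rfl

theorem centEl_high {k : ℕ} (h : 14 ≤ k) : centEl k = tE ^ (k - 14) * vE := by
  rw [centEl, centWord, if_neg (by omega), show (2 :: List.replicate (k - 14) 1) = [2] ++ List.replicate (k - 14) 1 from rfl,
    gword_append, gword_replicate, gword_singleton]
  rfl

theorem centEl_comm (k : ℕ) : centEl k * (tE * tE) = tE * tE * centEl k := by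
  by_cases h : k < 14
  · rw [centEl_low h]
    exact (Commute.mul_right ((Commute.refl tE).pow_left k) ((Commute.refl tE).pow_left k)).eq
  · rw [centEl_high (by omega)]
    exact (Commute.mul_left (Commute.mul_right ((Commute.refl tE).pow_left (k - 14)) ((Commute.refl tE).pow_left (k - 14)))
      (show Commute vE (tE * tE) from v_comm)).eq

theorem rep_x : Rep vv (tE * tE).1 xMat := by
  have h := utv_word (w := [1, 1]) (by decide)
  have e : gword [uE, tE, vE] [1, 1] = tE * tE := by simp [gword]
  exact e ▸ h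

/-- The centraliser of the element of order seven. -/
theorem cent_x {g : ruGroup} (h : g * (tE * tE) = tE * tE * g) : ∃ k < 28, g = centEl k := by
  obtain ⟨hp, hmem, htriv⟩ := CentData.bound dataX rep_x headX scanX g.2 (comm_val h)
  rw [show dataX.images = imagesSeven from rfl, ← images_facts.2.1, List.mem_map] at hmem
  obtain ⟨k, hk, hkg⟩ := hmem
  refine ⟨k, List.mem_range.mp hk, ?_⟩
  have hk' : (centEl k).1 ⟨dataX.p, hp⟩ = g.1 ⟨dataX.p, hp⟩ := by
    refine Fin.ext ?_
    rw [← hkg, ← ptOf_vv ((centEl k).1 ⟨dataX.p, hp⟩)]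
    exact congrArg ptOf (utv_word (centWord_lt k) ⟨dataX.p, hp⟩)
  have hc : (centEl k)⁻¹ * g * (tE * tE) = tE * tE * ((centEl k)⁻¹ * g) :=
    (Commute.mul_left (Commute.inv_left (centEl_comm k)) (show Commute g (tE * tE) from h)).eq
  obtain ⟨_, _, ht⟩ := CentData.bound dataX rep_x headX scanX ((centEl k)⁻¹ * g).2 (comm_val hc)
  have h1 := ht (by
    show ((centEl k).1⁻¹ * g.1) ⟨dataX.p, hp⟩ = _
    rw [Equiv.Perm.mul_apply, Equiv.Perm.inv_eq_iff_eq]
    exact hk'.symm)
  exact (inv_mul_eq_one.mp (Subtype.ext h1)).symm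

/-- The involutions commuting with the square of `tE`. -/
theorem involution_cases {g : ruGroup} (h : g * (tE * tE) = tE * tE * g) (h2 : g * g = 1) :
    g = 1 ∨ g = tE ^ 7 ∨ g = vE ∨ g = tE ^ 7 * vE := by
  obtain ⟨k, hk, rfl⟩ := cent_x h
  by_cases e0 : k = 0
  · subst e0; left; rw [centEl_low (by norm_num), pow_zero]
  by_cases e7 : k = 7
  · subst e7; right; left; exact centEl_low (by norm_num)
  by_cases e14 : k = 14
  · subst e14; right; right; left; rw [centEl_high le_rfl]; simp
  by_cases e21 : k = 21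
  · subst e21; right; right; right; exact centEl_high (by norm_num)
  exfalso
  refine images_facts.2.2.2 k hk e0 e7 e14 e21 ?_
  have h := utv_word (w := centWord k ++ centWord k)
    (fun i hi => (List.mem_append.mp hi).elim (centWord_lt k i) (centWord_lt k i)) ⟨pointSeven, by decide⟩
  rw [gword_append, show gword [uE, tE, vE] (centWord k) * gword [uE, tE, vE] (centWord k) = 1 from h2,
    OneMemClass.coe_one, Equiv.Perm.one_apply] at h
  exact h.symm

theorem rel_lt (k : ℕ) : (∀ i ∈ relOne k, i < 2) ∧ ∀ i ∈ relTwo k, i < 2 := by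
  constructor <;> intro i hi
  · obtain ⟨l, hl, hil⟩ := List.mem_flatten.mp hi
    rw [List.eq_of_mem_replicate hl, List.mem_append] at hil
    rcases hil with h | h
    · rw [List.eq_of_mem_replicate h]; norm_num
    · rw [List.mem_singleton.mp h]; norm_num
  · obtain ⟨l, hl, hil⟩ := List.mem_flatten.mp hi
    rw [List.eq_of_mem_replicate hl, List.mem_append, List.mem_append, List.mem_append] at hil
    rcases hil with ((h | h) | h) | h
    · rw [List.eq_of_mem_replicate h]; norm_num
    · rw [List.mem_singleton.mp h]; norm_num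
    · rw [List.eq_of_mem_replicate h]; norm_num
    · rw [List.mem_singleton.mp h]; norm_num

theorem uE_ne : uE ≠ 1 := by
  intro h
  have e := cent_u (g := vE) (by rw [h, mul_one, one_mul])
  obtain ⟨j, hj⟩ := e
  rw [h, one_pow] at hj
  have hm := separate_ok
  simp only [separateOK, Bool.and_eq_true] at hm
  refine ne_one_of_moves (a := gword [uE, vE] (relOne 2)) (gword_rep rfl (fun i hi => ?_) (fun i hi => ?_)) hm.2.2.2.1
    ?_
  · match i, hi with
    | 0, _ => exact rep_u
    | 1, _ => exact rep_v
  · exact (rel_lt 2).1 i hi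
  · rw [h, hj]
    generalize relOne 2 = w
    induction w using List.reverseRecOn with
    | nil => rfl
    | append_singleton w i ih =>
      rw [gword_append, ih, mul_one, gword_singleton]
      rcases i with _ | _ | i <;> simp

theorem uE_order : orderOf uE = 29 :=
  haveI : Fact (Nat.Prime 29) := ⟨by norm_num⟩
  orderOf_eq_prime u_pow uE_ne

theorem conj_pow' (n : ℕ) : tE * uE ^ n * tE⁻¹ = uE ^ (4 * n) := by
  rw [← MulAut.conj_apply, map_pow, MulAut.conj_apply, t_mul_u, mul_inv_cancel_right, ← pow_mul]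

theorem conj_iter : ∀ (m n : ℕ), tE ^ m * uE ^ n * (tE ^ m)⁻¹ = uE ^ (4 ^ m * n)
  | 0, n => by simp
  | m + 1, n => by
    rw [pow_succ' tE m, show tE * tE ^ m * uE ^ n * (tE * tE ^ m)⁻¹ = tE * (tE ^ m * uE ^ n * (tE ^ m)⁻¹) * tE⁻¹ by
      group, conj_iter m n, conj_pow', pow_succ']
    congr 1
    ring

theorem card_model : Nat.card ruGroup = 145926144000 := card_ru

/-- An element of order twenty-nine is conjugate to a first or second power. -/
theorem order29_classes {w : ruGroup} (hw : orderOf w = 29) :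
    ∃ g k, (k = 1 ∨ k = 2) ∧ g * w * g⁻¹ = uE ^ k := by
  haveI : Fact (Nat.Prime 29) := ⟨by norm_num⟩
  have h29 : (145926144000 : ℕ).factorization 29 = 1 := by
    refine le_antisymm ?_ ((Nat.Prime.pow_dvd_iff_le_factorization (by norm_num) (by norm_num)).mp (by norm_num))
    by_contra h
    exact absurd ((Nat.Prime.pow_dvd_iff_le_factorization (p := 29) (k := 2) (by norm_num) (by norm_num)).mpr (by omega))
      (by norm_num : ¬ 29 ^ 2 ∣ 145926144000)
  have hcard : ∀ y : ruGroup, orderOf y = 29 →
      Nat.card (Subgroup.zpowers y) = 29 ^ (Nat.card ruGroup).factorization 29 := fun y hy => by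
    rw [Nat.card_zpowers, hy, card_model, h29, pow_one]
  let P : Sylow 29 ruGroup := Sylow.ofCard _ (hcard w hw)
  let Q : Sylow 29 ruGroup := Sylow.ofCard _ (hcard uE uE_order)
  obtain ⟨g, hg⟩ := MulAction.exists_smul_eq ruGroup P Q
  have h1 : g * w * g⁻¹ ∈ (g • P : Sylow 29 ruGroup).toSubgroup := by
    rw [Sylow.coe_subgroup_smul]
    exact Subgroup.mem_pointwise_smul_iff_inv_smul_mem.mpr (by
      have : w ∈ (P : Subgroup ruGroup) := Subgroup.mem_zpowers w
      simpa [MulAut.smul_def, mul_assoc] using this)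
  rw [hg] at h1
  have h2 : g * w * g⁻¹ ∈ Subgroup.zpowers uE := h1
  obtain ⟨i, hi⟩ := Submonoid.mem_powers_iff _ _ |>.1 ((isOfFinOrder_of_finite uE).mem_powers_iff_mem_zpowers.2 h2)
  have hmod : ∀ n : ℕ, uE ^ n = uE ^ (n % 29) := fun n => by rw [← uE_order, pow_mod_orderOf]
  have hi' : uE ^ (i % 29) = g * w * g⁻¹ := by rw [← hmod, hi]
  have hne : i % 29 ≠ 0 := fun h => by
    rw [h, pow_zero, eq_comm, conj_eq_one_iff] at hi'
    rw [hi', orderOf_one] at hw
    norm_num at hw
  have key : ∀ r : Fin 29, r.val ≠ 0 → ∃ m : Fin 14, (4 ^ m.val * r.val) % 29 = 1 ∨ (4 ^ m.val * r.val) % 29 = 2 := by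
    decide +kernel
  obtain ⟨m, hm⟩ := key ⟨i % 29, Nat.mod_lt _ (by norm_num)⟩ hne
  have e : tE ^ m.val * g * w * (tE ^ m.val * g)⁻¹ = uE ^ ((4 ^ m.val * (i % 29)) % 29) := by
    rw [← hmod, ← conj_iter, hi']
    group
  simp only at hm
  rcases hm with hm | hm
  · exact ⟨_, 1, Or.inl rfl, by rw [e, hm]⟩
  · exact ⟨_, 2, Or.inr rfl, by rw [e, hm]⟩

theorem closure_uv : Subgroup.closure ({uE, vE} : Set ruGroup) = ⊤ := by
  set S := Subgroup.closure ({uE, vE} : Set ruGroup)
  have hu : uE ∈ S := Subgroup.subset_closure (by simp)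
  have hv : vE ∈ S := Subgroup.subset_closure (by simp)
  have hw : gword [uE, vE] genBWord ∈ S := by
    generalize genBWord = w
    induction w using List.reverseRecOn with
    | nil => exact S.one_mem
    | append_singleton w i ih =>
      rw [gword_append, gword_singleton]
      refine S.mul_mem ?_ ih
      rcases i with _ | _ | i <;> simp [hu, hv]
  refine eq_top_iff.mpr fun g _ => ?_
  have hle : ruGroup ≤ S.map ruGroup.subtype := by
    refine (Subgroup.closure_le _).mpr ?_
    intro s hs
    have : s = genA ∨ s = genB := by simpa [gs0] using hs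
    rcases this with rfl | rfl
    · exact ⟨uE, hu, rfl⟩
    · refine ⟨_, hw, Rep.eq vecs (gword_rep rfl (fun i hi => ?_) (fun i hi => relations.2.2.2.2.2.2.2.2.2.2 i hi))
        (relations.2.2.2.2.2.2.2.2.2.1.symm ▸ fun x => (perm1_fact x).2.2.2.2.symm)⟩
      match i, hi with
      | 0, _ => exact rep_u
      | 1, _ => exact rep_v
  obtain ⟨h, hh, e⟩ := hle g.2
  exact Subtype.ext e ▸ hh

theorem gword_block (a b : ruGroup) (k : ℕ) : ∀ n, gword [a, b] ((List.replicate n (List.replicate k 0 ++ [1])).flatten) =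
    (b * a ^ k) ^ n
  | 0 => rfl
  | n + 1 => by
    rw [List.replicate_succ', List.flatten_append, gword_append, gword_block a b k n, List.flatten_cons,
      List.flatten_nil, List.append_nil, gword_append, gword_replicate, gword_singleton, pow_succ']
    rfl

theorem gword_blocks (a b : ruGroup) (k : ℕ) : ∀ n,
    gword [a, b] ((List.replicate n (List.replicate k 0 ++ [1] ++ List.replicate (4 * k) 0 ++ [1])).flatten) =
      (b * (a ^ k) ^ 4 * (b * a ^ k)) ^ n
  | 0 => rfl
  | n + 1 => by
    rw [List.replicate_succ', List.flatten_append, gword_append, gword_blocks a b k n, List.flatten_cons,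
      List.flatten_nil, List.append_nil, pow_succ' _ n, gword_append, gword_append, gword_append, gword_replicate,
      gword_replicate, gword_singleton, ← pow_mul, Nat.mul_comm k 4]
    simp only [List.getD_cons_zero, List.getD_cons_succ, mul_assoc]

/-- The images of the letters are forced. -/
theorem forced (χ : ruGroup ≃* ruGroup) {k : ℕ} (hk : k = 1 ∨ k = 2) (hu : χ uE = uE ^ k) (ht : χ tE = tE) :
    χ = MulEquiv.refl ruGroup := by
  have hm := separate_ok
  simp only [separateOK, Bool.and_eq_true, beq_iff_eq] at hm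
  obtain ⟨h11, h21, m1, m2, m3⟩ := hm
  have huv : ∀ i < [uE, vE].length, Rep vv ([uE, vE].getD i 1).1 ([uMat, vMat].getD i 0) := by
    intro i hi
    match i, hi with
    | 0, _ => exact rep_u
    | 1, _ => exact rep_v
  have r1 : (vE * uE ^ 1) ^ 29 = 1 := by
    rw [← gword_block uE vE 1 29]
    exact eq_of_rep (gword_rep rfl huv (rel_lt 1).1) (h11 ▸ Rep.one vecs)
  have r2 : (vE * (uE ^ 1) ^ 4 * (vE * uE ^ 1)) ^ 12 = 1 := by
    rw [← gword_blocks uE vE 1 12]
    exact eq_of_rep (gword_rep rfl huv (rel_lt 1).2) (h21 ▸ Rep.one vecs)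
  rw [pow_one] at r1 r2
  have s1 := congrArg χ r1
  have s2 := congrArg χ r2
  rw [map_pow, map_mul, hu, map_one] at s1
  rw [map_pow, map_mul, map_mul, map_mul, map_pow, hu, map_one] at s2
  -- the image of the involution
  have hz : χ (tE ^ 7) = tE ^ 7 := by rw [map_pow, ht]
  have hvne : vE ≠ 1 := by
    intro e
    refine ne_one_of_moves (a := gword [uE, vE] (relOne 2)) (gword_rep rfl huv (rel_lt 2).1) m2 ?_
    rw [relOne, gword_block, e, one_mul, ← pow_mul, Nat.mul_comm, pow_mul, u_pow, one_pow]
  have hvz : vE ≠ tE ^ 7 := by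
    intro e
    have hz : (tE ^ 7 * vE) = 1 := by rw [← e, v_sq]
    refine ne_one_of_moves (a := gword [uE, tE ^ 7 * vE] (relOne 1)) (gword_rep rfl (fun i hi => ?_) (rel_lt 1).1) m1 ?_
    · match i, hi with
      | 0, _ => exact rep_u
      | 1, _ =>
        have := (rep_v).mul (utv_word (w := List.replicate 7 1) (repl_lt (by norm_num)))
        rw [gword_replicate] at this
        exact this
    · rw [relOne, gword_block, hz, one_mul, ← pow_mul, one_mul, u_pow]
  have hcases : χ vE = vE ∨ χ vE = tE ^ 7 * vE := by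
    have h1 : χ vE * (tE * tE) = tE * tE * χ vE := by
      have := congrArg χ v_comm
      simpa [map_mul, ht] using this
    have h2 : χ vE * χ vE = 1 := by rw [← map_mul, v_sq, map_one]
    rcases involution_cases h1 h2 with e | e | e | e
    · exact absurd (χ.map_eq_one_iff.mp e) hvne
    · exact absurd (χ.injective (e.trans hz.symm)) hvz
    · exact Or.inl e
    · exact Or.inr e
  have hvzrep : Rep vv (tE ^ 7 * vE).1 vzMat := by
    have := (rep_v).mul (utv_word (w := List.replicate 7 1) (repl_lt (by norm_num)))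
    rw [gword_replicate] at this
    exact this
  have huvz : ∀ i < [uE, tE ^ 7 * vE].length,
      Rep vv ([uE, tE ^ 7 * vE].getD i 1).1 ([uMat, vzMat].getD i 0) := by
    intro i hi
    match i, hi with
    | 0, _ => exact rep_u
    | 1, _ => exact hvzrep
  rcases hk with rfl | rfl <;> rcases hcases with e | e <;> rw [e] at s1 s2
  · refine MulEquiv.toMonoidHom_injective (MonoidHom.eq_of_eqOn_dense closure_uv ?_)
    rintro x (rfl | rfl)
    · show χ uE = uE
      rw [hu, pow_one]
    · exact e
  · exact absurd ((gword_block uE (tE ^ 7 * vE) 1 29).trans s1)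
      (ne_one_of_moves (gword_rep rfl huvz (rel_lt 1).1) m1)
  · exact absurd ((gword_block uE vE 2 29).trans s1) (ne_one_of_moves (gword_rep rfl huv (rel_lt 2).1) m2)
  · exact absurd ((gword_blocks uE (tE ^ 7 * vE) 2 12).trans s2)
      (ne_one_of_moves (gword_rep rfl huvz (rel_lt 2).2) m3)

/-- Every automorphism is inner. -/
theorem aut_inner (φ : MulAut ruGroup) : ∃ g : ruGroup, φ = MulAut.conj g := by
  obtain ⟨g, k, hk, hg⟩ := order29_classes (w := φ uE)
    ((orderOf_injective φ.toMonoidHom φ.injective uE).trans uE_order)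
  set ψ : MulAut ruGroup := φ.trans (MulAut.conj g) with hψ
  have hu : ψ uE = uE ^ k := hg
  -- the image of the normalising element
  have hd : (tE⁻¹ * ψ tE) * uE ^ k = uE ^ k * (tE⁻¹ * ψ tE) := by
    have h := congrArg ψ t_mul_u
    rw [map_mul, map_mul, map_pow, hu] at h
    have h' := conj_pow' k
    rw [← pow_mul, Nat.mul_comm] at h
    rw [← h', mul_assoc] at h
    rw [mul_assoc, h]
    group
  have hd1 : (tE⁻¹ * ψ tE) * uE = uE * (tE⁻¹ * ψ tE) := by
    have hc : Commute (tE⁻¹ * ψ tE) (uE ^ k) := hd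
    rcases hk with rfl | rfl
    · simpa using hd
    · have := (hc.pow_right 15).eq
      rwa [← pow_mul, show 2 * 15 = 29 + 1 from rfl, pow_succ, u_pow, one_mul] at this
  obtain ⟨j, hj⟩ := cent_u hd1
  have htj : ψ tE = tE * uE ^ j := by rw [← hj]; group
  set χ : MulAut ruGroup := ψ.trans (MulAut.conj (uE ^ (11 * j))) with hχ
  have hχu : χ uE = uE ^ k := by
    show uE ^ (11 * j) * ψ uE * (uE ^ (11 * j))⁻¹ = _
    rw [hu, ← pow_add, Nat.add_comm, pow_add, mul_inv_cancel_right]
  have hχt : χ tE = tE := by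
    show uE ^ (11 * j) * ψ tE * (uE ^ (11 * j))⁻¹ = tE
    rw [htj]
    have h22 : uE ^ (11 * j) * tE = tE * uE ^ (22 * (11 * j)) := by
      have h := conj_pow' (22 * (11 * j))
      have e : uE ^ (4 * (22 * (11 * j))) = uE ^ (11 * j) := by
        rw [show 4 * (22 * (11 * j)) = 29 * (33 * j) + 11 * j by ring, pow_add, pow_mul, u_pow, one_pow, one_mul]
      rw [e] at h
      rw [← h]; group
    rw [← mul_assoc, h22, mul_assoc tE, ← pow_add, show 22 * (11 * j) + j = 29 * (8 * j) + 11 * j by ring, pow_add,
      pow_mul, u_pow, one_pow, one_mul, mul_inv_cancel_right]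
  have hfix := forced χ hk hχu hχt
  refine ⟨g⁻¹ * (uE ^ (11 * j))⁻¹, MulEquiv.ext fun x => ?_⟩
  have hx : uE ^ (11 * j) * (g * φ x * g⁻¹) * (uE ^ (11 * j))⁻¹ = x := congrArg (fun f : MulAut ruGroup => f x) hfix
  rw [MulAut.conj_apply]
  conv_rhs => rw [← hx]
  group

end Cfsg.Lib.RuModel
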